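import Cfsg.Agent.Lib.FusionCrit.NormalResidual

/-
Characters of order prime to `p` of the automizer of a strongly closed subgroup, and their values on maps
meeting it in a centric subgroup.
Main results (namespace `Cfsg.Agent.FusionChar`): `Ctx`, `chiFn`, `Ctx.chi_eq_one_of_restrict`, `GoodRep`,
`Ctx.goodRep_unique`, `Ctx.goodVal_eq`.
-/

set_option autoImplicit false

open scoped Classical

namespace Cfsg.Agent.FusionChar

open Cfsg Cfsg.FusionSystem Cfsg.Agent.Fusion Cfsg.Agent.FusionChain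
open Cfsg.Agent.FusionCrit (autFn_mul autFn_inv_self autFn_self_inv)

variable {Ω : Type*} [Group Ω] {S T : Subgroup Ω} {F : FusionSystem S} {E : FusionSystem T} {p : ℕ}
  {Δ : Type*} [Group Δ] {χ : ↥(F.autGroup T) →* Δ}

/-- The character as a function on all automorphisms of `T`. -/
noncomputable def chiFn (χ : ↥(F.autGroup T) →* Δ) (γ : MulAut T) : Δ :=
  if h : γ ∈ F.autGroup T then χ ⟨γ, h⟩ else 1

theorem chiFn_apply {γ : MulAut T} (h : γ ∈ F.autGroup T) : chiFn χ γ = χ ⟨γ, h⟩ := dif_pos h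

theorem chiFn_mul {a b : MulAut T} (ha : a ∈ F.autGroup T) (hb : b ∈ F.autGroup T) :
    chiFn χ (a * b) = chiFn χ a * chiFn χ b := by
  rw [chiFn_apply ha, chiFn_apply hb, chiFn_apply (mul_mem ha hb), ← map_mul]
  rfl

theorem chiFn_pow {a : MulAut T} (ha : a ∈ F.autGroup T) (n : ℕ) :
    chiFn χ (a ^ n) = chiFn χ a ^ n := by
  rw [chiFn_apply ha, chiFn_apply (pow_mem ha n), ← map_pow]
  rfl

theorem chiFn_inv {a : MulAut T} (ha : a ∈ F.autGroup T) : chiFn χ a⁻¹ = (chiFn χ a)⁻¹ := by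
  rw [chiFn_apply ha, chiFn_apply (Subgroup.inv_mem _ ha), ← map_inv]
  rfl

/-- The standing hypotheses. -/
structure Ctx (p : ℕ) (F : FusionSystem S) (E : FusionSystem T) (χ : ↥(F.autGroup T) →* Δ) : Prop where
  pgroup : IsPGroup p S
  sat : F.IsSaturated p
  normal : E.IsNormalIn F p
  coprime : (Nat.card Δ).Coprime p
  ker : (E.autGroup T).subgroupOf (F.autGroup T) ≤ χ.ker

/-- An automorphism of `T` representing `f` on `P ⊓ T` modulo maps of `E`. -/
def GoodRep (F : FusionSystem S) (E : FusionSystem T) (P : Subgroup Ω) (f : Ω → Ω) (γ : MulAut T) :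
    Prop :=
  γ ∈ F.autGroup T ∧ ∃ e, IsMap E (P ⊓ T) e ∧ ∀ x ∈ P ⊓ T, f x = autFn γ (e x)

namespace Ctx

theorem inv (c : Ctx p F E χ) : E.IsInvariantIn F := c.normal.1.2.2

theorem satE (c : Ctx p F E χ) : E.IsSaturated p := c.normal.1.1

theorem le (c : Ctx p F E χ) : T ≤ S := c.inv.2.1.1

theorem eq_one_of_pow (c : Ctx p F E χ) {d : Δ} {k : ℕ} (h : d ^ p ^ k = 1) : d = 1 := by
  rw [← orderOf_eq_one_iff]
  exact Nat.eq_one_of_dvd_coprimes (c.coprime.pow_right k) (orderOf_dvd_natCard d)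
    (orderOf_dvd_of_pow_eq_one h)

theorem chi_eq_one_of_mem (c : Ctx p F E χ) {β : MulAut T} (h : β ∈ E.autGroup T) :
    chiFn χ β = 1 := by
  have hF := FusionNormal.autGroup_le_of_sub c.inv.1 le_rfl h
  rw [chiFn_apply hF]
  exact c.ker (show (⟨β, hF⟩ : ↥(F.autGroup T)) ∈ (E.autGroup T).subgroupOf (F.autGroup T) from h)

/-- The intersection with `T` of the image is the image of the intersection. -/
theorem isIso_inf (c : Ctx p F E χ) {P : Subgroup Ω} {f : Ω → Ω} (hf : IsMap F P f) :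
    IsIso F (P ⊓ T) (img f P ⊓ T) f := by
  refine ⟨hf.mono inf_le_left, IsIso.img_eq_of hf inf_le_left (fun x hx => ?_) fun y hy => ?_⟩
  · exact ⟨hf.mem_img hx.1, isMap_mem_of_stronglyClosed c.inv.2.1 hf hx.1 hx.2⟩
  · obtain ⟨x, hx, rfl⟩ := (hf.mem_img_iff le_rfl).1 hy.1
    obtain ⟨i, hi, hil, -⟩ := hf.isIso.symm
    refine ⟨x, ⟨hx, ?_⟩, rfl⟩
    have := isMap_mem_of_stronglyClosed c.inv.2.1 hi.1 hy.1 hy.2
    rwa [hil x hx] at this

theorem good_img (c : Ctx p F E χ) {P : Subgroup Ω} {f : Ω → Ω} (hf : IsMap F P f) :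
    E.IsCentric (img f P ⊓ T) ↔ E.IsCentric (P ⊓ T) := by
  refine ⟨fun h => ?_, fun h => FusionCrit.isCentric_transport c.inv h (c.isIso_inf hf)⟩
  obtain ⟨i, hi, -, -⟩ := (c.isIso_inf hf).symm
  exact FusionCrit.isCentric_transport c.inv h hi

theorem good_le {P R : Subgroup Ω} (h : E.IsCentric (P ⊓ T)) (hPR : P ≤ R) :
    E.IsCentric (R ⊓ T) :=
  FusionCrit.isCentric_of_le h (inf_le_inf_right _ hPR) inf_le_right

theorem good_top (c : Ctx p F E χ) [Finite S] : E.IsCentric (S ⊓ T) := by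
  have := finite_of_le c.le
  rw [inf_eq_right.2 c.le]
  exact FusionCrit.isCentric_self

variable [Finite S] [Fact p.Prime]

/-- An automorphism of `T` inducing a map of `E` on a centric subgroup of `E` is in the kernel. -/
theorem chi_eq_one_of_restrict (c : Ctx p F E χ) {Q : Subgroup Ω} (hQ : E.IsCentric Q) {β : MulAut T}
    (hβ : β ∈ F.autGroup T) (hm : IsMap E Q (autFn β)) : chiFn χ β = 1 := by
  have := finite_mulAut c.le
  have hi := c.inv
  have hQT := hQ.1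
  have hpows : ∀ j : ℕ, IsMap E Q (autFn (β ^ j)) := by
    intro j
    induction j with
    | zero =>
      refine (Fusion.IsMap.id hQT).congr fun x hx => ?_
      rw [pow_zero, autFn_apply _ (hQT hx)]
      rfl
    | succ j ih =>
      obtain ⟨b', hb', hb'e⟩ := FusionNormal.transport_map hi hQT ih hβ
      refine (hm.comp hb' fun x hx => hm.mem_img hx).congr fun x hx => ?_
      rw [hb'e x hx, pow_succ' β, autFn_mul _ _ (hQT hx)]
  obtain ⟨v, q, hq, hqe⟩ :=
    Nat.exists_eq_pow_mul_and_not_dvd (orderOf_pos β).ne' p (Fact.out : p.Prime).ne_one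
  have h1 : (β ^ p ^ v) ^ q = 1 := by rw [← pow_mul, ← hqe, pow_orderOf_eq_one]
  have hmem := FusionCrit.mem_of_restrict c.pgroup c.satE hi hQ (pow_mem hβ (p ^ v))
    ((Nat.Prime.coprime_iff_not_dvd Fact.out).2 hq).symm (by rw [h1]; exact one_mem _) (hpows _)
  have := c.chi_eq_one_of_mem hmem
  rw [chiFn_pow hβ] at this
  exact c.eq_one_of_pow this

omit [Finite S] [Fact p.Prime] in
theorem exists_goodRep (c : Ctx p F E χ) {P : Subgroup Ω} {f : Ω → Ω} (hf : IsMap F P f) :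
    ∃ γ, GoodRep F E P f γ :=
  let ⟨α, hα, f₀, hf₀, he⟩ := FusionNormal.frattini_map c.inv inf_le_right (hf.mono inf_le_left)
  ⟨α, hα, f₀, hf₀, he⟩

theorem goodRep_unique (c : Ctx p F E χ) {P : Subgroup Ω} {f : Ω → Ω} (hP : E.IsCentric (P ⊓ T))
    {γ γ' : MulAut T} (h : GoodRep F E P f γ) (h' : GoodRep F E P f γ') :
    chiFn χ γ = chiFn χ γ' := by
  obtain ⟨hγ, e, he, hee⟩ := h
  obtain ⟨hγ', e', he', hee'⟩ := h'
  have hd : γ'⁻¹ * γ ∈ F.autGroup T := mul_mem (Subgroup.inv_mem _ hγ') hγ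
  obtain ⟨i, hi, hil, -⟩ := he.isIso.symm
  have hc : E.IsCentric (img e (P ⊓ T)) :=
    FusionCrit.isCentric_of_isConj hP (isConj_iff.2 ⟨e, he.isIso⟩)
  have h1 := c.chi_eq_one_of_restrict hc hd <|
    (hi.1.comp he' fun y hy => hi.mem hy).congr fun y hy => by
      obtain ⟨x, hx, rfl⟩ := (he.mem_img_iff le_rfl).1 hy
      rw [hil x hx, autFn_mul _ _ (he.mem hx), ← hee x hx, hee' x hx,
        autFn_inv_self γ' (he'.mem hx)]
  rw [chiFn_mul (Subgroup.inv_mem _ hγ') hγ, chiFn_inv hγ', inv_mul_eq_one] at h1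
  exact h1.symm

theorem chi_conj (c : Ctx p F E χ) {s : Ω} (hs : s ∈ normalizerIn S T) :
    chiFn χ (normConj S T ⟨s, hs⟩) = 1 := by
  have hm : normConj S T ⟨s, hs⟩ ∈ F.autGroup T :=
    autInducedBy_le_autGroup F le_rfl c.le (range_normConj S T ▸ ⟨_, rfl⟩)
  obtain ⟨k, hk⟩ := c.pgroup ⟨s, hs.1⟩
  refine c.eq_one_of_pow (k := k) ?_
  have hs1 : s ^ p ^ k = 1 := congrArg Subtype.val hk
  have hs2 : (⟨s, hs⟩ : normalizerIn S T) ^ p ^ k = 1 := Subtype.ext (by simpa using hs1)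
  rw [← chiFn_pow hm, ← map_pow, hs2, map_one, chiFn_apply (one_mem _)]
  exact map_one χ

/-- The representative of a composite. -/
theorem goodRep_comp (c : Ctx p F E χ) {P : Subgroup Ω} {f g : Ω → Ω} (hf : IsMap F P f)
    {γ δ : MulAut T} (h : GoodRep F E P f γ) (h' : GoodRep F E (img f P) g δ) :
    GoodRep F E P (fun x => g (f x)) (δ * γ) := by
  obtain ⟨hγ, e, he, hee⟩ := h
  obtain ⟨hδ, e', he', hee'⟩ := h'
  refine ⟨mul_mem hδ hγ, ?_⟩
  obtain ⟨e'', he'', he''e⟩ :=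
    FusionNormal.transport_map c.inv inf_le_right he' (Subgroup.inv_mem _ hγ)
  have hfm : ∀ x ∈ P ⊓ T, f x ∈ img f P ⊓ T := fun x hx => (c.isIso_inf hf).mem hx
  have hex : ∀ x ∈ P ⊓ T, autFn γ⁻¹ (f x) = e x := fun x hx => by
    rw [hee x hx, autFn_inv_self γ (he.mem hx)]
  refine ⟨fun x => e'' (e x), he.comp he'' fun x hx => ?_, fun x hx => ?_⟩
  · rw [← hex x hx]
    exact Subgroup.subset_closure ⟨f x, hfm x hx, rfl⟩
  · have hy := hfm x hx
    have hT : e' (f x) ∈ T := he'.mem hy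
    show g (f x) = autFn (δ * γ) (e'' (e x))
    rw [hee' _ hy, ← hex x hx, he''e _ hy, autFn_mul _ _ (autFn_mem γ⁻¹ hT), autFn_self_inv γ hT]

end Ctx

/-- The value of the character on a map meeting `T` in a centric subgroup. -/
noncomputable def goodVal (E : FusionSystem T) (χ : ↥(F.autGroup T) →* Δ) (P : Subgroup Ω)
    (f : Ω → Ω) : Δ :=
  chiFn χ (Classical.epsilon (GoodRep F E P f))

theorem Ctx.goodVal_eq [Finite S] [Fact p.Prime] (c : Ctx p F E χ) {P : Subgroup Ω} {f : Ω → Ω}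
    (hP : E.IsCentric (P ⊓ T)) {γ : MulAut T} (h : GoodRep F E P f γ) :
    goodVal E χ P f = chiFn χ γ :=
  c.goodRep_unique hP (Classical.epsilon_spec ⟨γ, h⟩) h

end Cfsg.Agent.FusionChar
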