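import Cfsg.Agent.Lib.FusionChar.Valuation

/-
The subsystem cut out by a character of the automizer of a strongly closed subgroup.
Main results (namespace `Cfsg.Agent.FusionChar`): `charA`, `Ctx.resA_le`, `Ctx.autGroup_genSys`,
`Ctx.isNormalIn`, `Ctx.isSubsystemOf`, `Ctx.ne_top`, `Ctx.residual_le`.
-/

set_option autoImplicit false

open scoped Classical

namespace Cfsg.Agent.FusionChar

open Cfsg Cfsg.FusionSystem Cfsg.Agent.Fusion Cfsg.Agent.FusionChain
open Cfsg.Agent.FusionCrit (autFn_mul autFn_inv_self autFn_self_inv Gen TGen genSys resA)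

variable {Ω : Type*} [Group Ω] {S T : Subgroup Ω} {F : FusionSystem S} {E : FusionSystem T} {p : ℕ}
  {Δ : Type*} [Group Δ] {χ : ↥(F.autGroup T) →* Δ}

theorem autFn_one {R : Subgroup Ω} {x : Ω} (hx : x ∈ R) : autFn (1 : MulAut R) x = x :=
  autFn_apply _ hx

/-- The automorphisms of `S` restricting to elements of the kernel of the character. -/
def charA (χ : ↥(F.autGroup T) →* Δ) (hTS : T ≤ S) : Subgroup (MulAut S) where
  carrier := {α | α ∈ F.autGroup S ∧ ∃ γ : ↥(F.autGroup T), χ γ = 1 ∧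
    ∀ t : T, (((γ : MulAut T) t : T) : Ω) = ((α ⟨(t : Ω), hTS t.2⟩ : S) : Ω)}
  one_mem' := ⟨one_mem _, 1, map_one χ, fun _ => rfl⟩
  mul_mem' := by
    rintro a b ⟨ha, γ, hγ, hγe⟩ ⟨hb, δ, hδ, hδe⟩
    refine ⟨mul_mem ha hb, γ * δ, by rw [map_mul, hγ, hδ, one_mul], fun t => ?_⟩
    show (((γ : MulAut T) ((δ : MulAut T) t) : T) : Ω) = _
    rw [hγe]
    exact congrArg (fun z : S => ((a z : S) : Ω)) (Subtype.ext (hδe t))
  inv_mem' := by
    rintro a ⟨ha, γ, hγ, hγe⟩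
    refine ⟨Subgroup.inv_mem _ ha, γ⁻¹, by rw [map_inv, hγ, inv_one], fun t => ?_⟩
    have h := hγe ((γ : MulAut T)⁻¹ t)
    rw [MulAut.apply_inv_self] at h
    have h2 : (⟨(t : Ω), hTS t.2⟩ : S) = a ⟨_, hTS ((γ : MulAut T)⁻¹ t).2⟩ := Subtype.ext h
    rw [h2, MulAut.inv_apply_self]
    rfl

theorem charA_le (χ : ↥(F.autGroup T) →* Δ) (hTS : T ≤ S) : charA χ hTS ≤ F.autGroup S :=
  fun _ h => h.1

theorem mem_charA_iff {hTS : T ≤ S} {α : MulAut S} (hα : α ∈ F.autGroup S) {γ : MulAut T}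
    (hγ : γ ∈ F.autGroup T) (he : ∀ x ∈ T, autFn α x = autFn γ x) :
    α ∈ charA χ hTS ↔ chiFn χ γ = 1 := by
  rw [chiFn_apply hγ]
  have h : ∀ t : T, ((γ t : T) : Ω) = ((α ⟨(t : Ω), hTS t.2⟩ : S) : Ω) := fun t => by
    rw [← autFn_apply γ t.2, ← autFn_apply α (hTS t.2), he t t.2]
  refine ⟨?_, fun hc => ⟨hα, ⟨γ, hγ⟩, hc, h⟩⟩
  rintro ⟨-, δ, hδ, hδe⟩
  rwa [show (⟨γ, hγ⟩ : ↥(F.autGroup T)) = δ from
    Subtype.ext (MulEquiv.ext fun t => Subtype.ext ((h t).trans (hδe t).symm))]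

namespace Ctx

variable [Finite S] [Fact p.Prime]

theorem exists_restrict (c : Ctx p F E χ) {α : MulAut S} (hα : α ∈ F.autGroup S) :
    ∃ γ ∈ F.autGroup T, ∀ x ∈ T, autFn α x = autFn γ x := by
  have hm : IsMap F T (autFn α) := ((mem_autGroup_iff le_rfl).1 hα).mono c.le
  have himg : img (autFn α) T = T := eq_of_le_of_card c.le
    (hm.img_le le_rfl fun x hx => isMap_mem_of_stronglyClosed c.inv.2.1 hm hx hx)
    (hm.card_img le_rfl).ge
  obtain ⟨γ, hγ, hγe⟩ := exists_aut_of_isIso (show IsIso F T T (autFn α) from ⟨hm, himg⟩)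
  exact ⟨γ, hγ, fun x hx => by rw [autFn_apply γ hx, hγe]⟩

theorem val_top (c : Ctx p F E χ) {θ : Subgroup Ω → (Ω → Ω) → Δ} (v : Val E χ θ 0) {α : MulAut S}
    (hα : α ∈ F.autGroup S) {γ : MulAut T} (hγ : γ ∈ F.autGroup T)
    (he : ∀ x ∈ T, autFn α x = autFn γ x) : θ S (autFn α) = chiFn χ γ :=
  v.good S (autFn α) (Nat.zero_le _) FusionCrit.isCentric_self ((mem_autGroup_iff le_rfl).1 hα)
    c.good_top γ ⟨hγ, fun x => x, Fusion.IsMap.id inf_le_right, fun x hx => he x hx.2⟩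

/-- The valuation is trivial on generated maps. -/
theorem val_gen (c : Ctx p F E χ) {θ : Subgroup Ω → (Ω → Ω) → Δ} (v : Val E χ θ 0) {Q : Subgroup Ω}
    {g : Ω → Ω} (h : Gen F p Q g) : F.IsCentric Q → θ Q g = 1 := by
  induction h with
  | @aut R Q α hc hα hQ =>
    intro hcQ
    rw [v.mono Q R _ (Nat.zero_le _) hcQ hQ
      ((mem_autGroup_iff hc.1).1 (FusionCrit.ppAut_le_autGroup F p R hα))]
    let Φ : ↥(F.autGroup R) →* Δ :=
      { toFun := fun a => θ R (autFn (a : MulAut R))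
        map_one' := by
          rw [← v.id_eq (Nat.zero_le _) hc]
          exact v.congr R _ _ (Nat.zero_le _) hc ((mem_autGroup_iff hc.1).1 (one_mem _))
            fun x hx => autFn_one hx
        map_mul' := fun a b => by
          have hm := (mem_autGroup_iff hc.1).1 b.2
          rw [← v.comp' (Nat.zero_le _) hc hm ((mem_autGroup_iff hc.1).1 a.2)
            fun x hx => autFn_mem _ hx]
          exact v.congr R _ _ (Nat.zero_le _) hc ((mem_autGroup_iff hc.1).1 (a * b).2)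
            fun x hx => autFn_mul _ _ hx }
    have hle : FusionCrit.ppAut F p R ≤ Φ.ker.map (F.autGroup R).subtype := by
      rw [FusionCrit.ppAut, Subgroup.closure_le]
      rintro a ⟨ha, k, hk⟩
      refine ⟨⟨a, ha⟩, c.eq_one_of_pow (k := k) ?_, rfl⟩
      rw [← map_pow]
      have h1 : (⟨a, ha⟩ : ↥(F.autGroup R)) ^ p ^ k = 1 :=
        Subtype.ext (by simp [← hk, pow_orderOf_eq_one])
      rw [h1, map_one]
    obtain ⟨b, hb, rfl⟩ := hle hα
    exact hb
  | @conj Q s hQ hs =>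
    intro hc
    exact v.conj Q s (Nat.zero_le _) hc hs
  | @comp Q f g h₁ h₂ ih₁ ih₂ =>
    intro hc
    rw [v.comp Q f g (Nat.zero_le _) hc h₁.isMap h₂.isMap, ih₁ hc,
      ih₂ (FusionCrit.isCentric_of_isConj hc (isConj_iff.2 ⟨f, h₁.isMap.isIso⟩)), mul_one]
  | @congr Q f g h₁ e ih =>
    intro hc
    rw [← v.congr Q f g (Nat.zero_le _) hc h₁.isMap e, ih hc]

theorem resA_le (c : Ctx p F E χ) : resA F p ≤ charA χ c.le := by
  obtain ⟨θ, v⟩ := exists_val c
  rw [resA, Subgroup.closure_le]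
  rintro β ⟨hβ, P, hP, hg⟩
  obtain ⟨γ, hγ, he⟩ := c.exists_restrict hβ
  refine (mem_charA_iff hβ hγ he).2 ?_
  rw [← c.val_top v hβ hγ he,
    ← v.mono P S _ (Nat.zero_le _) hP hP.1 ((mem_autGroup_iff le_rfl).1 hβ)]
  exact c.val_gen v hg hP

/-- The subsystem. -/
abbrev subsys (c : Ctx p F E χ) : FusionSystem S :=
  genSys F p (charA χ c.le) (charA_le χ c.le)

theorem autGroup_subsys (c : Ctx p F E χ) : c.subsys.autGroup S = charA χ c.le := by
  ext α
  constructor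
  · intro hα
    have hm := (mem_autGroup_iff le_rfl).1 hα
    have hαF : α ∈ F.autGroup S :=
      (mem_autGroup_iff le_rfl).2 ((FusionCrit.isMap_genSys.1 hm).isMap (charA_le χ c.le))
    obtain ⟨β, hβ, g, hg, he⟩ := FusionCrit.isMap_genSys.1 hm
    have hg' : Gen F p S (autFn (β⁻¹ * α)) := hg.congr fun x hx => by
      rw [autFn_mul _ _ hx, he x hx, autFn_inv_self β (hg.isMap.mem hx)]
    have h : β⁻¹ * α ∈ charA χ c.le := c.resA_le (Subgroup.subset_closure
      ⟨mul_mem (Subgroup.inv_mem _ hβ.1) hαF, S, FusionCrit.isCentric_self, hg'⟩)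
    simpa using mul_mem hβ h
  · intro hα
    exact (mem_autGroup_iff le_rfl).2 (FusionCrit.isMap_genSys.2
      ⟨α, hα, fun x => x, Gen.id le_rfl, fun x _ => rfl⟩)

theorem isNormalIn (c : Ctx p F E χ) : c.subsys.IsNormalIn F p := by
  have hA : charA χ c.le ≤ F.autGroup S := charA_le χ c.le
  refine ⟨⟨FusionCrit.isSaturated_genSys c.pgroup c.sat _ c.resA_le, c.sat, ?_,
    ⟨le_rfl, fun R _ φ hφ x => (F.le_of_mem hφ).2 x⟩, ?_, ?_⟩, ?_⟩
  · intro P φ hφ
    exact mem_of_isMap (TGen.isMap hA hφ) fun x => (toFn_coe φ x).symm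
  · intro P hP φ hφ α hα
    obtain ⟨β, hβ, g, hg, hfg⟩ := hφ
    have hb : IsMap F S (autFn α) := (mem_autGroup_iff le_rfl).1 hα
    set f' := fun y => autFn α (toFn φ (autFn α⁻¹ y)) with hf'
    have h1 := hg.twist hα (fun y => autFn α (g (autFn α⁻¹ y))) fun x hx => by
      show autFn α (g (autFn α⁻¹ (autFn α x))) = _
      rw [autFn_inv_self α (hP hx)]
    have hconj : α * β * α⁻¹ ∈ charA χ c.le := by
      obtain ⟨γ, hγ, hγe⟩ := c.exists_restrict (hA hβ)
      obtain ⟨δ, hδ, hδe⟩ := c.exists_restrict hα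
      have h := (mem_charA_iff (hA hβ) hγ hγe).1 hβ
      refine (mem_charA_iff (mul_mem (mul_mem hα (hA hβ)) (Subgroup.inv_mem _ hα))
        (mul_mem (mul_mem hδ hγ) (Subgroup.inv_mem _ hδ)) fun x hx => ?_).2 ?_
      · have h1 : autFn α⁻¹ x = autFn δ⁻¹ x := by
          have h2 := hδe _ (autFn_mem δ⁻¹ hx)
          rw [autFn_self_inv δ hx] at h2
          calc autFn α⁻¹ x = autFn α⁻¹ (autFn α (autFn δ⁻¹ x)) := by rw [h2]
            _ = autFn δ⁻¹ x := autFn_inv_self α (c.le (autFn_mem δ⁻¹ hx))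
        have hx' := autFn_mem δ⁻¹ hx
        rw [autFn_mul _ _ (c.le hx), autFn_mul _ _ (autFn_mem _ (c.le hx)), autFn_mul _ _ hx,
          autFn_mul _ _ hx', h1, hγe _ hx', hδe _ (autFn_mem γ hx')]
      · rw [chiFn_mul (mul_mem hδ hγ) (Subgroup.inv_mem _ hδ), chiFn_mul hδ hγ, h, chiFn_inv hδ,
          mul_one, mul_inv_cancel]
    have h2 : TGen F p (charA χ c.le) (img (autFn α) P) f' := by
      refine ⟨α * β * α⁻¹, hconj, _, h1, fun y hy => ?_⟩
      obtain ⟨x, hx, rfl⟩ := (hb.mem_img_iff hP).1 hy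
      have hgx := hg.isMap.mem hx
      show autFn α (toFn φ (autFn α⁻¹ (autFn α x))) =
        autFn (α * β * α⁻¹) (autFn α (g (autFn α⁻¹ (autFn α x))))
      rw [autFn_inv_self α (hP hx), hfg x hx, ← autFn_mul (α * β * α⁻¹) α hgx, inv_mul_cancel_right,
        autFn_mul _ _ hgx]
    obtain ⟨ψ, hψ, hψe⟩ := FusionCrit.isMap_genSys (hA := hA).2 h2
    have hdom : (P.subgroupOf S).map (S.subtype.comp α.toMonoidHom) = img (autFn α) P := by
      refine le_antisymm ?_ (hb.img_le hP fun x hx => ?_)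
      · rintro _ ⟨x, hx, rfl⟩
        exact Subgroup.subset_closure ⟨x, hx, autFn_apply α x.2⟩
      · exact ⟨⟨x, hP hx⟩, hx, (autFn_apply α (hP hx)).symm⟩
    have key : ∀ W, W = img (autFn α) P → ∃ ψ ∈ (genSys F p (charA χ c.le) hA).Hom W,
        ∀ y (hy : y ∈ W), ψ ⟨y, hy⟩ = f' y := by
      rintro W rfl
      exact ⟨ψ, hψ, hψe⟩
    obtain ⟨ψ', hψ', he'⟩ := key _ hdom
    refine ⟨ψ', hψ', fun x hφx hαx => ?_⟩
    rw [he', ← autFn_apply α (hP x.2), hf']
    show autFn α (toFn φ (autFn α⁻¹ (autFn α x))) = _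
    rw [autFn_inv_self α (hP x.2), toFn_coe, autFn_apply α hφx]
  · intro P hP φ hφ
    obtain ⟨β, hβ, g, hg, hfg⟩ := FusionCrit.exists_frattini c.pgroup c.sat (isMap_toFn hφ)
    obtain ⟨ψ, hψ, hψe⟩ :=
      FusionCrit.isMap_genSys (hA := hA).2 (TGen.of_gen (A := charA χ c.le) hg)
    refine ⟨β, hβ, ψ, hψ, fun x hx => ?_⟩
    rw [← toFn_coe φ x, hfg x x.2, show g x = ψ x from (hψe x x.2).symm, autFn_apply _ hx]
  · intro α hα
    rw [c.autGroup_subsys] at hα
    have hb : IsMap F S (autFn α) := (mem_autGroup_iff le_rfl).1 hα.1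
    have hM : S ⊔ centralizerIn S S = S := sup_eq_left.2 inf_le_left
    have hiso : IsIso F (S ⊔ centralizerIn S S) (S ⊔ centralizerIn S S) (autFn α) := by
      rw [hM]
      exact isIso_autFn le_rfl hα.1
    obtain ⟨β, hβ, hβe⟩ := exists_aut_of_isIso hiso
    refine ⟨β, hβ, fun x => ?_, fun d hd => ?_⟩
    · rw [hβe]
      exact autFn_apply α x.2
    · have hdS : (d : Ω) ∈ S := hd.1
      rw [hβe]
      refine ⟨mul_mem (S.inv_mem hdS) (autFn_mem α hdS), ?_⟩
      have h1 := map_centralizerIn hb le_rfl (isIso_autFn le_rfl hα.1).2 hdS hd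
      exact (mul_mem (Subgroup.inv_mem _ hd) h1 : (d : Ω)⁻¹ * autFn α d ∈ centralizerIn S S).2

theorem residual_le (c : Ctx p F E χ) {R : FusionSystem S} (hR : F.IsPPrimeResidual p R) :
    R.IsSubsystemOf c.subsys := by
  rw [FusionCrit.eq_genSys c.pgroup c.sat hR]
  rintro P φ ⟨β, hβ, g, hg, he⟩
  exact ⟨β, c.resA_le hβ, g, hg, he⟩

/-- An automorphism of `T` is, on `T`, an automorphism of `S` with the same value composed with a generated
map. -/
theorem exists_top (c : Ctx p F E χ) {γ : MulAut T} (hγ : γ ∈ F.autGroup T) :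
    ∃ b ∈ F.autGroup S, (b ∈ charA χ c.le ↔ chiFn χ γ = 1) ∧
      (b ∈ charA χ c.le → IsMap c.subsys T (autFn γ)) := by
  obtain ⟨θ, v⟩ := exists_val c
  have hTS := c.le
  have hst := c.inv.2.1
  have : Finite T := finite_of_le hTS
  have hTfn : F.IsFullyNormalized T := by
    refine ⟨hTS, fun Q hQ => ?_⟩
    obtain ⟨e, he⟩ := isConj_iff.1 hQ
    obtain rfl : Q = T := eq_of_le_of_card hTS (FusionCrit.le_T_of_iso c.inv le_rfl he) he.card_eq.ge
    exact le_rfl
  obtain ⟨f, hf, hfe⟩ := exists_extension (receptive_of_fullyNormalized c.pgroup c.sat hTfn) hγ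
    (centralizerIn_le_normalizerIn S T) fun x hx => by
      have : normConj S T ⟨x, centralizerIn_le_normalizerIn S T hx⟩ = 1 :=
        (normConj_eq_one_iff _).2 hx
      rw [this, mul_one, mul_inv_cancel]
      exact Subgroup.one_mem _
  set M := T ⊔ centralizerIn S T with hMd
  have hMS : M ≤ S := sup_le hTS inf_le_left
  have hTM : T ≤ M := le_sup_left
  have hCM : centralizerIn S T ≤ M := le_sup_right
  have hMc : F.IsCentric M := by
    refine ⟨hMS, fun Q hQ => ?_⟩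
    obtain ⟨h, hh⟩ := isConj_iff.1 hQ
    have hT : img h T = T := eq_of_le_of_card hTS
      (hh.1.img_le hTM fun x hx => isMap_mem_of_stronglyClosed hst hh.1 (hTM hx) hx)
      (hh.1.card_img hTM).ge
    obtain rfl : Q = M := by
      rw [← hh.2]
      refine eq_of_le_of_card hMS (hh.1.img_le le_rfl fun x hx => ?_) (hh.1.card_img le_rfl).ge
      exact hh.1.forall_mem_sup hTM hCM (fun y hy => hTM (hT ▸ hh.1.mem_img hy))
        (fun y hy => hCM (map_centralizerIn hh.1 hTM hT (hCM hy) hy)) hx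
    exact fun x hx => hCM
      (mem_centralizerIn.2 ⟨hx.1, fun y hy => (mem_centralizerIn.1 hx).2 y (hTM hy)⟩)
  obtain ⟨b, hb, g, hg, hfg⟩ := FusionCrit.exists_frattini c.pgroup c.sat hf
  obtain ⟨δ, hδ, hδe⟩ := c.exists_restrict hb
  have hMT : M ⊓ T = T := inf_eq_right.2 hTM
  have h1 : θ M f = chiFn χ γ := by
    refine v.good M f (Nat.zero_le _) hMc hf (hMT.symm ▸ FusionCrit.isCentric_self) γ
      ⟨hγ, fun x => x, Fusion.IsMap.id inf_le_right, fun x hx => hfe x hx.2⟩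
  have hbm : IsMap F S (autFn b) := (mem_autGroup_iff le_rfl).1 hb
  have h2 : θ M f = chiFn χ δ := by
    rw [v.congr M f _ (Nat.zero_le _) hMc hf hfg,
      v.comp' (Nat.zero_le _) hMc hg.isMap hbm (fun x hx => hg.isMap.mem hx),
      c.val_gen v hg hMc, mul_one, c.val_top v hb hδ hδe]
  refine ⟨b, hb, ?_, fun hbA => ?_⟩
  · rw [mem_charA_iff hb hδ hδe, ← h2, h1]
  · exact FusionCrit.isMap_genSys.2 ((TGen.mono ⟨b, hbA, g, hg, hfg⟩ hTM).congr hfe)

theorem isSubsystemOf (c : Ctx p F E χ) : E.IsSubsystemOf c.subsys := by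
  have hTS := c.le
  have : Finite T := finite_of_le hTS
  have hT : IsPGroup p T := c.pgroup.to_le hTS
  have hgen : ∀ {P : Subgroup Ω} {g : Ω → Ω}, Gen E p P g → IsMap c.subsys P g := by
    intro P g h
    induction h with
    | @aut R Q α hc hα hQ =>
      refine ((mem_autGroup_iff (hc.1.trans hTS)).1 ?_).mono hQ
      refine (Subgroup.closure_le _).2 ?_ hα
      rintro a ⟨ha, k, hk⟩
      exact (mem_autGroup_iff (hc.1.trans hTS)).2 (FusionCrit.isMap_genSys.2 (TGen.of_gen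
        (FusionCrit.gen_of_pElement c.pgroup c.sat (hc.1.trans hTS)
          (FusionNormal.autGroup_le_of_sub c.inv.1 hc.1 ha) hk)))
    | conj hQ hs => exact Fusion.IsMap.conj (hQ.trans hTS) (hTS hs)
    | comp _ _ ih1 ih2 => exact ih1.comp ih2 fun x hx => ih1.mem_img hx
    | congr _ e ih => exact ih.congr e
  intro P φ hφ
  obtain ⟨β, hβ, g, hg, hfg⟩ := FusionCrit.exists_frattini hT c.satE (isMap_toFn hφ)
  obtain ⟨b, -, hiff, hmap⟩ := c.exists_top (FusionNormal.autGroup_le_of_sub c.inv.1 le_rfl hβ)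
  have hm := hmap (hiff.2 (c.chi_eq_one_of_mem hβ))
  exact mem_of_isMap (((hgen hg).comp hm fun x hx => hg.isMap.mem hx).congr fun x hx => (hfg x hx).symm)
    fun x => (toFn_coe φ x).symm

theorem ne_top [Nontrivial Δ] (c : Ctx p F E χ) (hχ : Function.Surjective χ) :
    ¬ ∀ P : Subgroup Ω, c.subsys.Hom P = F.Hom P := by
  intro h
  obtain ⟨d, hd⟩ := exists_ne (1 : Δ)
  obtain ⟨γ, rfl⟩ := hχ d
  obtain ⟨b, hb, hiff, -⟩ := c.exists_top γ.2
  refine hd ?_
  rw [← chiFn_apply γ.2]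
  refine hiff.1 ?_
  rw [← c.autGroup_subsys]
  unfold FusionSystem.autGroup at hb ⊢
  rw [h]
  exact hb

end Ctx

end Cfsg.Agent.FusionChar
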