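import Cfsg.Agent.Lib.FusionChar.Basic
import Cfsg.Agent.S5251

/-
The extension of a character of the automizer of a strongly closed subgroup to all maps between centric
subgroups.
Main results (namespace `Cfsg.Agent.FusionChar`): `Val`, `exists_val`.
-/

set_option autoImplicit false

open scoped Classical

namespace Cfsg.Agent.FusionChar

open Cfsg Cfsg.FusionSystem Cfsg.Agent.Fusion Cfsg.Agent.FusionChain
open Cfsg.Agent.FusionCrit (autFn_mul autFn_inv_self autFn_self_inv)

variable {Ω : Type*} [Group Ω] {S T : Subgroup Ω} {F : FusionSystem S} {E : FusionSystem T} {p : ℕ}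
  {Δ : Type*} [Group Δ] {χ : ↥(F.autGroup T) →* Δ}

/-- A multiplicative valuation on maps with centric source of order at least `m` extending the character. -/
structure Val (E : FusionSystem T) (χ : ↥(F.autGroup T) →* Δ) (θ : Subgroup Ω → (Ω → Ω) → Δ)
    (m : ℕ) : Prop where
  congr : ∀ (P : Subgroup Ω) (f g : Ω → Ω), m ≤ Nat.card P → F.IsCentric P → IsMap F P f →
    (∀ x ∈ P, f x = g x) → θ P f = θ P g
  mono : ∀ (P R : Subgroup Ω) (f : Ω → Ω), m ≤ Nat.card P → F.IsCentric P → P ≤ R → IsMap F R f →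
    θ P f = θ R f
  comp : ∀ (P : Subgroup Ω) (f g : Ω → Ω), m ≤ Nat.card P → F.IsCentric P → IsMap F P f →
    IsMap F (img f P) g → θ P (fun x => g (f x)) = θ (img f P) g * θ P f
  conj : ∀ (P : Subgroup Ω) (s : Ω), m ≤ Nat.card P → F.IsCentric P → s ∈ S →
    θ P (fun x => s * x * s⁻¹) = 1
  good : ∀ (P : Subgroup Ω) (f : Ω → Ω), m ≤ Nat.card P → F.IsCentric P → IsMap F P f →
    E.IsCentric (P ⊓ T) → ∀ γ, GoodRep F E P f γ → θ P f = chiFn χ γ

section Bad

/-- The chosen fully normalized member of the class. -/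
noncomputable def rep (F : FusionSystem S) (P : Subgroup Ω) : Subgroup Ω :=
  Classical.epsilon fun Q => F.IsConj P Q ∧ F.IsFullyNormalized Q

/-- The chosen map of `N_S(P)` carrying `P` to the representative. -/
noncomputable def toRep (F : FusionSystem S) (P : Subgroup Ω) : Ω → Ω :=
  Classical.epsilon fun g => IsMap F (normalizerIn S P) g ∧ img g P = rep F P

/-- Its inverse. -/
noncomputable def fromRep (F : FusionSystem S) (P : Subgroup Ω) : Ω → Ω :=
  Function.invFunOn (toRep F P) (normalizerIn S P : Set Ω)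

/-- The automorphism of the representative corresponding to a map. -/
noncomputable def autRep (F : FusionSystem S) (P : Subgroup Ω) (f : Ω → Ω) : Ω → Ω :=
  fun y => toRep F (img f P) (f (fromRep F P y))

/-- `N_S^K` of the representative, `K = O_p` of its automizer. -/
def top (F : FusionSystem S) (p : ℕ) (P₀ : Subgroup Ω) : Subgroup Ω :=
  NK S P₀ (pCoreAut F p P₀)

/-- The value on an automorphism of the representative. -/
noncomputable def valRep (F : FusionSystem S) (p : ℕ) (θ : Subgroup Ω → (Ω → Ω) → Δ) (P₀ : Subgroup Ω)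
    (a : Ω → Ω) : Δ :=
  θ (top F p P₀) (Classical.epsilon fun h => IsMap F (top F p P₀) h ∧ ∀ x ∈ P₀, h x = a x)

/-- The value on a map whose source meets `T` in a subgroup that is not centric in `E`. -/
noncomputable def badVal (F : FusionSystem S) (p : ℕ) (θ : Subgroup Ω → (Ω → Ω) → Δ) (P : Subgroup Ω)
    (f : Ω → Ω) : Δ :=
  (θ (normalizerIn S (img f P)) (toRep F (img f P)))⁻¹ * valRep F p θ (rep F P) (autRep F P f) *
    θ (normalizerIn S P) (toRep F P)

theorem le_Nx_of_ext {P R : Subgroup Ω} {a h : Ω → Ω} (hR : R ≤ normalizerIn S P) (hPR : P ≤ R)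
    (hh : IsMap F R h) (he : ∀ x ∈ P, h x = a x) : R ≤ Nx S P a := fun y hy =>
  mem_Nx.2 ⟨hR hy, h y, hh.mem hy, fun x hx => by
    rw [← he _ (normalizerIn_conj (hR hy) hx), hh.map_conj hy (hPR hx), he x hx]⟩

end Bad

namespace Val

variable {θ : Subgroup Ω → (Ω → Ω) → Δ} {m : ℕ} [Finite S]

theorem comp' (v : Val E χ θ m) {P Q : Subgroup Ω} {f g : Ω → Ω} (hm : m ≤ Nat.card P)
    (hP : F.IsCentric P) (hf : IsMap F P f) (hg : IsMap F Q g) (h : ∀ x ∈ P, f x ∈ Q) :
    θ P (fun x => g (f x)) = θ Q g * θ P f := by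
  have hle : img f P ≤ Q := hf.img_le le_rfl h
  rw [v.comp P f g hm hP hf (hg.mono hle),
    v.mono _ Q g (by rw [hf.card_img le_rfl]; exact hm)
      (FusionCrit.isCentric_of_isConj hP (isConj_iff.2 ⟨f, hf.isIso⟩)) hle hg]

theorem id_eq (v : Val E χ θ m) {P : Subgroup Ω} (hm : m ≤ Nat.card P) (hP : F.IsCentric P) :
    θ P (fun x => x) = 1 := by
  rw [← v.conj P 1 hm hP S.one_mem]
  exact v.congr P _ _ hm hP (Fusion.IsMap.id hP.1) fun x _ => by simp

/-- Maps agreeing on a centric normal subgroup have the same value. -/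
theorem uniq [Fact p.Prime] (v : Val E χ θ m) (hS : IsPGroup p S) (hF : F.IsSaturated p)
    {P R : Subgroup Ω} (hP : F.IsCentric P) (hPR : P ≤ R) (hR : R ≤ normalizerIn S P)
    (hm : m ≤ Nat.card R) {f g : Ω → Ω} (hf : IsMap F R f) (hg : IsMap F R g)
    (he : ∀ x ∈ P, f x = g x) : θ R f = θ R g := by
  obtain ⟨q, hq, hqe⟩ := FusionCrit.exists_eq_conj_of_eqOn_centric hS hF hP hPR hR hf hg he
  have hcR : F.IsCentric R := FusionCrit.isCentric_of_le hP hPR hf.le
  have hqS : q ∈ S := hP.1 hq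
  have hmem : ∀ x ∈ R, q * x * q⁻¹ ∈ R := fun x hx =>
    mul_mem (mul_mem (hPR hq) hx) (inv_mem (hPR hq))
  rw [v.congr R f _ hm hcR hf hqe,
    v.comp' hm hcR (Fusion.IsMap.conj hf.le hqS) hg hmem, v.conj R q hm hcR hqS, mul_one]

end Val

variable [Finite S] [Fact p.Prime]

/-- What is known about a centric subgroup meeting `T` in a subgroup not centric in `E`. -/
structure Bad (F : FusionSystem S) (E : FusionSystem T) (P : Subgroup Ω) : Prop where
  centric : F.IsCentric P
  notGood : ¬ E.IsCentric (P ⊓ T)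

namespace Bad

variable {P : Subgroup Ω}

omit [Fact p.Prime] in
theorem img (c : Ctx p F E χ) (b : Bad F E P) {f : Ω → Ω} (hf : IsMap F P f) : Bad F E (img f P) :=
  ⟨FusionCrit.isCentric_of_isConj b.centric (isConj_iff.2 ⟨f, hf.isIso⟩),
    fun h => b.notGood ((c.good_img hf).1 h)⟩

theorem rep_spec (c : Ctx p F E χ) (b : Bad F E P) :
    F.IsConj P (rep F P) ∧ F.IsFullyNormalized (rep F P) := by
  obtain ⟨Q, f, hQ, hf, he, -⟩ := exists_fullyNormalized_map c.pgroup c.sat b.centric.1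
  have hex : ∃ Q, F.IsConj P Q ∧ F.IsFullyNormalized Q :=
    ⟨Q, isConj_iff.2 ⟨f, hf.mono (le_normalizerIn b.centric.1), he⟩, hQ⟩
  exact Classical.epsilon_spec hex

omit [Finite S] [Fact p.Prime] in
theorem rep_eq {Q : Subgroup Ω} (h : F.IsConj P Q) : rep F Q = rep F P := by
  unfold rep
  congr 1
  funext X
  exact propext ⟨fun h' => ⟨isConj_trans h h'.1, h'.2⟩,
    fun h' => ⟨isConj_trans (isConj_symm h) h'.1, h'.2⟩⟩

theorem toRep_spec (c : Ctx p F E χ) (b : Bad F E P) :
    IsMap F (normalizerIn S P) (toRep F P) ∧ Cfsg.Agent.Fusion.img (toRep F P) P = rep F P := by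
  obtain ⟨hc, hn⟩ := b.rep_spec c
  obtain ⟨g, hg, hge, -⟩ := exists_normalizer_map c.pgroup
    (fullyAutomized_of_fullyNormalized c.pgroup c.sat hn)
    (receptive_of_fullyNormalized c.pgroup c.sat hn) hc
  have hex : ∃ g, IsMap F (normalizerIn S P) g ∧ Cfsg.Agent.Fusion.img g P = rep F P := ⟨g, hg, hge⟩
  exact Classical.epsilon_spec hex

theorem toRep_iso (c : Ctx p F E χ) (b : Bad F E P) : IsIso F P (rep F P) (toRep F P) :=
  ⟨(b.toRep_spec c).1.mono (le_normalizerIn b.centric.1), (b.toRep_spec c).2⟩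

theorem fromRep_toRep (c : Ctx p F E χ) (b : Bad F E P) {x : Ω} (hx : x ∈ normalizerIn S P) :
    fromRep F P (toRep F P x) = x :=
  (b.toRep_spec c).1.injOn.leftInvOn_invFunOn hx

theorem bad_rep (c : Ctx p F E χ) (b : Bad F E P) : Bad F E (rep F P) := by
  have h := b.img c ((b.toRep_spec c).1.mono (le_normalizerIn b.centric.1))
  rwa [(b.toRep_spec c).2] at h

theorem lt_top (c : Ctx p F E χ) (b : Bad F E P) : rep F P < top F p (rep F P) := by
  refine lt_NK_pCoreAut c.pgroup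
    (fullyAutomized_of_fullyNormalized c.pgroup c.sat (b.rep_spec c).2) ?_
  exact (S5251.result p c.pgroup F c.sat E c.normal _ (b.bad_rep c).centric (b.bad_rep c).notGood).2

theorem lt_normalizer (c : Ctx p F E χ) (b : Bad F E P) : P < normalizerIn S P := by
  refine lt_normalizerIn c.pgroup le_rfl (lt_of_le_of_ne b.centric.1 fun h => b.notGood ?_)
  rw [h]
  exact c.good_top

theorem isIso_autRep (c : Ctx p F E χ) (b : Bad F E P) {f : Ω → Ω} (hf : IsMap F P f) :
    IsIso F (rep F P) (rep F P) (autRep F P f) ∧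
      ∀ x ∈ P, autRep F P f (toRep F P x) = toRep F (Cfsg.Agent.Fusion.img f P) (f x) := by
  obtain ⟨hg, hge⟩ := b.toRep_spec c
  obtain ⟨hg', hge'⟩ := (b.img c hf).toRep_spec c
  have hPN := le_normalizerIn b.centric.1
  have hQN := le_normalizerIn (b.img c hf).centric.1
  obtain ⟨i, hi, hil, -⟩ := (b.toRep_iso c).symm
  have heq : ∀ x ∈ P, autRep F P f (toRep F P x) = toRep F (Cfsg.Agent.Fusion.img f P) (f x) :=
    fun x hx => by
      show toRep F _ (f (fromRep F P (toRep F P x))) = _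
      rw [b.fromRep_toRep c (hPN hx)]
  refine ⟨?_, heq⟩
  have hQ : rep F (Cfsg.Agent.Fusion.img f P) = rep F P := rep_eq (isConj_iff.2 ⟨f, hf.isIso⟩)
  rw [hQ] at hge'
  refine ((hi.trans hf.isIso).trans ⟨hg'.mono hQN, hge'⟩).congr fun y hy => ?_
  obtain ⟨x, hx, rfl⟩ := (b.toRep_iso c).exists_eq hy
  rw [heq x hx]
  show toRep F _ (f (i (toRep F P x))) = _
  rw [hil x hx]

/-- Automorphisms of the representative extend to `top`. -/
theorem exists_ext (c : Ctx p F E χ) (b : Bad F E P) {a : Ω → Ω}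
    (ha : IsIso F (rep F P) (rep F P) a) :
    ∃ h, IsMap F (top F p (rep F P)) h ∧ (∀ x ∈ rep F P, h x = a x) ∧
      ∀ x ∈ top F p (rep F P), h x ∈ top F p (rep F P) := by
  have hn := (b.rep_spec c).2
  obtain ⟨α, hα, hαe⟩ := exists_aut_of_isIso ha
  have hA := fullyAutomized_of_fullyNormalized c.pgroup c.sat hn
  obtain ⟨h, hh, hhe, hhK⟩ := exists_extension_NK (receptive_of_fullyNormalized c.pgroup c.sat hn) hα
    (pCoreAut F p (rep F P)) fun k hk =>
      ⟨pCoreAut_le_autInducedBy hA (conj_mem_pCoreAut hα hk.2), conj_mem_pCoreAut hα hk.2⟩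
  exact ⟨h, hh.mono le_sup_right, fun x hx => by rw [hhe x hx, autFn_apply α hx, hαe], hhK⟩

variable {θ : Subgroup Ω → (Ω → Ω) → Δ} {m : ℕ}

theorem card_top (c : Ctx p F E χ) (b : Bad F E P) :
    Nat.card P < Nat.card (top F p (rep F P)) := by
  have h := b.toRep_spec c
  rw [← (h.1.mono (le_normalizerIn b.centric.1)).card_img (le_refl P), h.2]
  exact FusionCrit.card_lt (NK_le S _ _) (b.lt_top c)

theorem valRep_eq (c : Ctx p F E χ) (b : Bad F E P) (v : Val E χ θ m) (hm : m ≤ Nat.card P + 1)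
    {a h : Ω → Ω} (hh : IsMap F (top F p (rep F P)) h) (he : ∀ x ∈ rep F P, h x = a x) :
    valRep F p θ (rep F P) a = θ (top F p (rep F P)) h := by
  have hex : ∃ h, IsMap F (top F p (rep F P)) h ∧ ∀ x ∈ rep F P, h x = a x := ⟨h, hh, he⟩
  obtain ⟨h1, h2⟩ := Classical.epsilon_spec hex
  exact v.uniq c.pgroup c.sat (b.bad_rep c).centric (b.lt_top c).le (NK_le_normalizerIn S _ _)
    (hm.trans (b.card_top c)) h1 hh fun x hx => (h2 x hx).trans (he x hx).symm

theorem valRep_congr (c : Ctx p F E χ) (b : Bad F E P) (v : Val E χ θ m) (hm : m ≤ Nat.card P + 1)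
    {a a' : Ω → Ω} (ha : IsIso F (rep F P) (rep F P) a) (he : ∀ x ∈ rep F P, a x = a' x) :
    valRep F p θ (rep F P) a = valRep F p θ (rep F P) a' := by
  obtain ⟨h, hh, hha, -⟩ := b.exists_ext c ha
  rw [b.valRep_eq c v hm hh hha, b.valRep_eq c v hm hh fun x hx => (hha x hx).trans (he x hx)]

theorem valRep_comp (c : Ctx p F E χ) (b : Bad F E P) (v : Val E χ θ m) (hm : m ≤ Nat.card P + 1)
    {a a' : Ω → Ω} (ha : IsIso F (rep F P) (rep F P) a) (ha' : IsIso F (rep F P) (rep F P) a') :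
    valRep F p θ (rep F P) (fun x => a' (a x)) =
      valRep F p θ (rep F P) a' * valRep F p θ (rep F P) a := by
  obtain ⟨h, hh, hha, hhM⟩ := b.exists_ext c ha
  obtain ⟨h', hh', hha', -⟩ := b.exists_ext c ha'
  rw [b.valRep_eq c v hm hh hha, b.valRep_eq c v hm hh' hha',
    b.valRep_eq c v hm (hh.comp hh' hhM) fun x hx => by rw [hha x hx, hha' _ (ha.mem hx)]]
  exact v.comp' (hm.trans (b.card_top c))
    (FusionCrit.isCentric_of_le (b.bad_rep c).centric (b.lt_top c).le (NK_le S _ _)) hh hh' hhM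

/-- A map of a larger subgroup normalizing `P` has the value defined on `P`. -/
theorem eq_badVal (c : Ctx p F E χ) (b : Bad F E P) (v : Val E χ θ m) (hm : m ≤ Nat.card P + 1)
    {R : Subgroup Ω} {f : Ω → Ω} (hf : IsMap F R f) (hPR : P < R) (hR : R ≤ normalizerIn S P) :
    θ R f = badVal F p θ P f := by
  have hPS := b.centric.1
  have hfP : IsMap F P f := hf.mono hPR.le
  set Q := Cfsg.Agent.Fusion.img f P with hQd
  have bQ : Bad F E Q := b.img c hfP
  obtain ⟨hg, hge⟩ := b.toRep_spec c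
  obtain ⟨hg', hge'⟩ := bQ.toRep_spec c
  rw [rep_eq (P := P) (Q := Q) (isConj_iff.2 ⟨f, hfP.isIso⟩)] at hge'
  obtain ⟨ha, hae⟩ := b.isIso_autRep c hfP
  have hn := (b.rep_spec c).2
  set P₀ := rep F P with hP₀
  set g := toRep F P with hgd
  set g' := toRep F Q with hgd'
  have hmR : m ≤ Nat.card R := hm.trans (FusionCrit.card_lt hf.le hPR)
  have hcR : F.IsCentric R := FusionCrit.isCentric_of_le b.centric hPR.le hf.le
  have hgR : IsMap F R g := hg.mono hR
  set R₁ := Cfsg.Agent.Fusion.img g R with hR₁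
  have hfN : ∀ x ∈ R, f x ∈ normalizerIn S Q := fun x hx =>
    map_normalizerIn hf hPR.le rfl hx (hR hx)
  obtain ⟨i, hi, hil, -⟩ := hgR.isIso.symm
  have hmap : IsMap F R₁ (fun y => g' (f (i y))) :=
    hi.1.comp (hf.comp hg' hfN) fun y hy => hi.mem hy
  have hP₀R₁ : P₀ ≤ R₁ := hge ▸ hgR.img_le hPR.le fun x hx => hgR.mem_img (hPR.le hx)
  have hR₁N : R₁ ≤ normalizerIn S P₀ := hgR.img_le le_rfl fun x hx =>
    map_normalizerIn hg (le_normalizerIn hPS) hge (hR hx) (hR hx)
  have hext : ∀ y ∈ P₀, g' (f (i y)) = autRep F P f y := fun y hy => by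
    obtain ⟨x, hx, rfl⟩ := (b.toRep_iso c).exists_eq hy
    rw [hae x hx, hil x (hPR.le hx)]
  have hmR₁ : m ≤ Nat.card R₁ := by rw [hR₁, hgR.card_img le_rfl]; exact hmR
  have hcR₁ : F.IsCentric R₁ := FusionCrit.isCentric_of_isConj hcR (isConj_iff.2 ⟨g, hgR.isIso⟩)
  obtain ⟨e, he, hee⟩ := (isReceptive_iff.1 (receptive_of_fullyNormalized c.pgroup c.sat hn)).2 P₀
    (autRep F P f) ha
  obtain ⟨h, hh, hha, -⟩ := b.exists_ext c ha
  have hR₁x : R₁ ≤ Nx S P₀ (autRep F P f) := le_Nx_of_ext hR₁N hP₀R₁ hmap hext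
  have hMx : top F p P₀ ≤ Nx S P₀ (autRep F P f) :=
    le_Nx_of_ext (NK_le_normalizerIn S _ _) (b.lt_top c).le hh hha
  have hmM : m ≤ Nat.card (top F p P₀) := hm.trans (b.card_top c)
  have hcM : F.IsCentric (top F p P₀) :=
    FusionCrit.isCentric_of_le (b.bad_rep c).centric (b.lt_top c).le (NK_le S _ _)
  have h1 : θ R₁ (fun y => g' (f (i y))) = valRep F p θ P₀ (autRep F P f) := by
    rw [b.valRep_eq c v hm (he.mono hMx) fun x hx => hee x hx,
      v.uniq c.pgroup c.sat (b.bad_rep c).centric hP₀R₁ hR₁N hmR₁ hmap (he.mono hR₁x)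
        fun y hy => (hext y hy).trans (hee y hy).symm,
      v.mono R₁ _ e hmR₁ hcR₁ hR₁x he, v.mono _ _ e hmM hcM hMx he]
  have h2 : θ R (fun x => g' (f (i (g x)))) = θ R₁ (fun y => g' (f (i y))) * θ R g :=
    v.comp R g _ hmR hcR hgR hmap
  have h3 : θ R (fun x => g' (f (i (g x)))) = θ (normalizerIn S Q) g' * θ R f := by
    rw [← v.comp' hmR hcR hf hg' hfN]
    exact v.congr R _ _ hmR hcR ((hgR.comp hmap fun x hx => hgR.mem_img hx)) fun x hx => by
      rw [hil x hx]
  rw [h3, h1, v.mono R _ g hmR hcR hR hg] at h2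
  show θ R f = (θ (normalizerIn S Q) g')⁻¹ * valRep F p θ P₀ (autRep F P f) * θ (normalizerIn S P) g
  rw [mul_assoc, ← h2, inv_mul_cancel_left]

end Bad

/-- The valuation on subgroups of order `m`, given it on larger ones. -/
theorem exists_val_step (c : Ctx p F E χ) {θ : Subgroup Ω → (Ω → Ω) → Δ} {m : ℕ}
    (v : Val E χ θ (m + 1)) : ∃ θ', Val E χ θ' m := by
  set θ' : Subgroup Ω → (Ω → Ω) → Δ := fun P f => if Nat.card P = m then
    (if E.IsCentric (P ⊓ T) then goodVal E χ P f else badVal F p θ P f) else θ P f with hθ'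
  have hbig : ∀ {P : Subgroup Ω} {f : Ω → Ω}, m < Nat.card P → θ' P f = θ P f := fun h => by
    simp only [hθ', if_neg h.ne']
  have hgood : ∀ {P : Subgroup Ω} {f : Ω → Ω}, Nat.card P = m → E.IsCentric (P ⊓ T) →
      θ' P f = goodVal E χ P f := fun h h' => by simp only [hθ', if_pos h, if_pos h']
  have hbad : ∀ {P : Subgroup Ω} {f : Ω → Ω}, Nat.card P = m → ¬ E.IsCentric (P ⊓ T) →
      θ' P f = badVal F p θ P f := fun h h' => by simp only [hθ', if_pos h, if_neg h']
  have hgv : ∀ (P : Subgroup Ω) (f : Ω → Ω), m ≤ Nat.card P → F.IsCentric P → IsMap F P f →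
      E.IsCentric (P ⊓ T) → ∀ γ, GoodRep F E P f γ → θ' P f = chiFn χ γ := by
    intro P f hm hP hf hg γ hγ
    rcases hm.lt_or_eq with h | h
    · rw [hbig h]
      exact v.good P f h hP hf hg γ hγ
    · rw [hgood h.symm hg]
      exact c.goodVal_eq hg hγ
  have hcongr : ∀ (P : Subgroup Ω) (f g : Ω → Ω), m ≤ Nat.card P → F.IsCentric P → IsMap F P f →
      (∀ x ∈ P, f x = g x) → θ' P f = θ' P g := by
    intro P f g hm hP hf he
    by_cases hg : E.IsCentric (P ⊓ T)
    · obtain ⟨γ, hγ⟩ := c.exists_goodRep hf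
      have hγ' : GoodRep F E P g γ :=
        ⟨hγ.1, let ⟨e, h1, h2⟩ := hγ.2; ⟨e, h1, fun x hx => (he x hx.1).symm.trans (h2 x hx)⟩⟩
      rw [hgv P f hm hP hf hg γ hγ, hgv P g hm hP (hf.congr he) hg γ hγ']
    rcases hm.lt_or_eq with h | h
    · rw [hbig h, hbig h]
      exact v.congr P f g h hP hf he
    rw [hbad h.symm hg, hbad h.symm hg]
    have b : Bad F E P := ⟨hP, hg⟩
    obtain ⟨ha, hae⟩ := b.isIso_autRep c hf
    have hm1 : m + 1 ≤ Nat.card P + 1 := by omega
    unfold badVal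
    rw [← img_congr he]
    congr 2
    refine b.valRep_congr c v hm1 ha fun y hy => ?_
    obtain ⟨x, hx, rfl⟩ := (b.toRep_iso c).exists_eq hy
    rw [hae x hx, (b.isIso_autRep c (hf.congr he)).2 x hx, img_congr he, he x hx]
  have hmono : ∀ (P R : Subgroup Ω) (f : Ω → Ω), m ≤ Nat.card P → F.IsCentric P → P ≤ R →
      IsMap F R f → θ' P f = θ' R f := by
    intro P R f hm hP hPR hf
    rcases eq_or_lt_of_le hPR with rfl | hlt
    · rfl
    have hmR : m < Nat.card R := hm.trans_lt (FusionCrit.card_lt hf.le hlt)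
    have hR : F.IsCentric R := FusionCrit.isCentric_of_le hP hPR hf.le
    rcases hm.lt_or_eq with h | h
    · rw [hbig h, hbig hmR]
      exact v.mono P R f h hP hPR hf
    by_cases hg : E.IsCentric (P ⊓ T)
    · obtain ⟨γ, hγ⟩ := c.exists_goodRep hf
      rw [hgv R f hmR.le hR hf (Ctx.good_le hg hPR) γ hγ]
      exact hgv P f hm hP (hf.mono hPR) hg γ ⟨hγ.1, let ⟨e, h1, h2⟩ := hγ.2;
        ⟨e, h1.mono (inf_le_inf_right _ hPR), fun x hx => h2 x ⟨hPR hx.1, hx.2⟩⟩⟩
    have b : Bad F E P := ⟨hP, hg⟩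
    have hlt' : P < normalizerIn R P := lt_normalizerIn c.pgroup hf.le hlt
    have hN : normalizerIn R P ≤ R := inf_le_left
    have hNm : m + 1 ≤ Nat.card (normalizerIn R P) :=
      h.le.trans_lt (FusionCrit.card_lt (hN.trans hf.le) hlt')
    rw [hbad h.symm hg, hbig hmR,
      ← v.mono _ R f hNm (FusionCrit.isCentric_of_le hP hlt'.le (hN.trans hf.le)) hN hf,
      b.eq_badVal c v (by omega) (hf.mono hN) hlt' (inf_le_inf_right _ hf.le)]
  refine ⟨θ', hcongr, hmono, ?_, ?_, hgv⟩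
  · intro P f g hm hP hf hg'
    have hQ : F.IsCentric (img f P) := FusionCrit.isCentric_of_isConj hP (isConj_iff.2 ⟨f, hf.isIso⟩)
    have hcard : Nat.card (img f P) = Nat.card P := hf.card_img le_rfl
    have hgf : IsMap F P (fun x => g (f x)) := hf.comp hg' fun x hx => hf.mem_img hx
    by_cases hg : E.IsCentric (P ⊓ T)
    · obtain ⟨γ, hγ⟩ := c.exists_goodRep hf
      obtain ⟨δ, hδ⟩ := c.exists_goodRep hg'
      rw [hgv P f hm hP hf hg γ hγ, hgv _ g (hcard ▸ hm) hQ hg' ((c.good_img hf).2 hg) δ hδ,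
        hgv P _ hm hP hgf hg _ (c.goodRep_comp hf hγ hδ), chiFn_mul hδ.1 hγ.1]
    rcases hm.lt_or_eq with h | h
    · rw [hbig h, hbig h, hbig (hcard ▸ h)]
      exact v.comp P f g h hP hf hg'
    have b : Bad F E P := ⟨hP, hg⟩
    have bQ : Bad F E (img f P) := b.img c hf
    have hm1 : m + 1 ≤ Nat.card P + 1 := by omega
    rw [hbad h.symm hg, hbad h.symm hg, hbad (hcard.trans h.symm) bQ.notGood]
    unfold badVal
    have hR : img g (img f P) = img (fun x => g (f x)) P := (FusionCrit.img_img_of hf hg').symm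
    have hrep : rep F (img f P) = rep F P := Bad.rep_eq (isConj_iff.2 ⟨f, hf.isIso⟩)
    obtain ⟨ha, hae⟩ := b.isIso_autRep c hf
    obtain ⟨ha', hae'⟩ := bQ.isIso_autRep c hg'
    rw [hrep] at ha' ⊢
    have hval : valRep F p θ (rep F P) (autRep F P fun x => g (f x)) =
        valRep F p θ (rep F P) (autRep F (img f P) g) * valRep F p θ (rep F P) (autRep F P f) := by
      rw [← b.valRep_comp c v hm1 ha ha']
      refine b.valRep_congr c v hm1 (b.isIso_autRep c hgf).1 fun y hy => ?_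
      obtain ⟨x, hx, rfl⟩ := (b.toRep_iso c).exists_eq hy
      rw [(b.isIso_autRep c hgf).2 x hx, hae x hx, hae' _ (hf.mem_img hx), hR]
    rw [hval, hR]
    group
  · intro P s hm hP hs
    have hm' : m ≤ Nat.card S := hm.trans (Subgroup.card_le_of_le hP.1)
    have hc : IsMap F S (fun x => s * x * s⁻¹) := Fusion.IsMap.conj le_rfl hs
    rw [hmono P S _ hm hP hP.1 hc]
    have hsN : s ∈ normalizerIn S T := by
      have := finite_of_le c.le
      exact mem_normalizerIn_of_conj hs fun x hx => conj_mem_of_stronglyClosed c.inv.2.1 hs hx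
    refine (hgv S _ hm' FusionCrit.isCentric_self hc c.good_top (normConj S T ⟨s, hsN⟩) ?_).trans
      (c.chi_conj hsN)
    refine ⟨autInducedBy_le_autGroup F le_rfl c.le (range_normConj S T ▸ ⟨_, rfl⟩), fun x => x,
      Fusion.IsMap.id inf_le_right, fun x hx => ?_⟩
    rw [autFn_apply _ hx.2, normConj_apply]

/-- The character extends to all maps with centric source. -/
theorem exists_val (c : Ctx p F E χ) : ∃ θ, Val E χ θ 0 := by
  suffices H : ∀ k, ∃ θ, Val E χ θ (Nat.card S + 1 - k) by simpa using H (Nat.card S + 1)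
  intro k
  induction k with
  | zero =>
    have h : ∀ {P : Subgroup Ω}, F.IsCentric P → ¬ Nat.card S + 1 - 0 ≤ Nat.card P := fun hP => by
      have := Subgroup.card_le_of_le hP.1
      omega
    exact ⟨fun _ _ => 1, fun P f g hm hP => absurd hm (h hP), fun P R f hm hP => absurd hm (h hP),
      fun P f g hm hP => absurd hm (h hP), fun P s hm hP => absurd hm (h hP),
      fun P f hm hP => absurd hm (h hP)⟩
  | succ k ih =>
    obtain ⟨θ, v⟩ := ih
    by_cases hk : Nat.card S + 1 ≤ k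
    · exact ⟨θ, by rwa [show Nat.card S + 1 - (k + 1) = Nat.card S + 1 - k by omega]⟩
    rw [show Nat.card S + 1 - k = Nat.card S + 1 - (k + 1) + 1 by omega] at v
    exact exists_val_step c v

end Cfsg.Agent.FusionChar
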